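import Mathlib.Algebra.BigOperators.Group.Finset.Basic
import Mathlib.Algebra.Ring.Int.Defs
import Mathlib.Data.Fintype.Order
import Mathlib.Data.Finset.Card

/-!
# Inclusion–exclusion weights above an element of a finite semilattice

`exists_weight`: weights `c` with `∑_{r < u ≤ v} c u = 1` for every `v > r`;
`sum_weight_union`: then the sum over `u > r` lying below some member of a list of elements with a
common lower bound `w > r` is `1` as well.
-/

namespace Cfsg.Agent.Subnormalizer

open Finset
open scoped Classical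

variable {α : Type*} [SemilatticeInf α] [Fintype α]

theorem exists_weight (r : α) :
    ∃ c : α → ℤ, ∀ v, r < v → ∑ u ∈ univ.filter (fun u => r < u ∧ u ≤ v), c u = 1 := by
  haveI : WellFoundedLT α := Finite.to_wellFoundedLT
  let F : ∀ v, (∀ u, u < v → ℤ) → ℤ := fun v ih =>
    1 - ∑ u ∈ (univ.filter fun u => r < u ∧ u < v).attach, ih u.1 (mem_filter.1 u.2).2.2
  refine ⟨fun v => WellFoundedLT.fix F v, fun v hv => ?_⟩
  have hs : univ.filter (fun u => r < u ∧ u ≤ v) =
      insert v (univ.filter fun u => r < u ∧ u < v) := by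
    ext u
    rw [mem_filter, mem_insert, mem_filter]
    simp only [mem_univ, true_and]
    constructor
    · rintro ⟨h1, h2⟩
      rcases eq_or_lt_of_le h2 with h | h
      · exact Or.inl h
      · exact Or.inr ⟨h1, h⟩
    · rintro (rfl | ⟨h1, h2⟩)
      · exact ⟨hv, le_rfl⟩
      · exact ⟨h1, h2.le⟩
  rw [hs, sum_insert (by simp)]
  beta_reduce
  rw [WellFoundedLT.fix_eq]
  simp only [F]
  rw [sum_attach _ (fun u => WellFoundedLT.fix F u)]
  exact sub_add_cancel _ _

theorem sum_weight_union {r w : α} {c : α → ℤ}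
    (hc : ∀ v, r < v → ∑ u ∈ univ.filter (fun u => r < u ∧ u ≤ v), c u = 1) (hw : r < w) :
    ∀ (n : ℕ) (l : List α), l.length = n + 1 → (∀ v ∈ l, w ≤ v) →
      ∑ u ∈ univ.filter (fun u => r < u ∧ ∃ v ∈ l, u ≤ v), c u = 1 := by
  intro n
  induction n with
  | zero =>
    intro l hl hlw
    obtain ⟨v, rfl⟩ := List.length_eq_one_iff.1 hl
    simpa using hc v (hw.trans_le (hlw v (by simp)))
  | succ n ih =>
    intro l hl hlw
    obtain ⟨v, l', rfl⟩ := List.exists_cons_of_length_eq_add_one hl
    have hl' : l'.length = n + 1 := by simpa using hl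
    set A := univ.filter (fun u => r < u ∧ u ≤ v) with hA
    set B := univ.filter (fun u => r < u ∧ ∃ x ∈ l', u ≤ x) with hB
    have hu : univ.filter (fun u => r < u ∧ ∃ x ∈ v :: l', u ≤ x) = A ∪ B := by
      ext u
      simp only [hA, hB, mem_union, mem_filter, mem_univ, true_and, List.mem_cons,
        exists_eq_or_imp]
      tauto
    have hi : A ∩ B = univ.filter (fun u => r < u ∧ ∃ x ∈ l'.map (v ⊓ ·), u ≤ x) := by
      ext u
      simp only [hA, hB, mem_inter, mem_filter, mem_univ, true_and, List.mem_map,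
        exists_exists_and_eq_and, le_inf_iff]
      tauto
    have hv : w ≤ v := hlw v (by simp)
    have hlw' : ∀ x ∈ l', w ≤ x := fun x hx => hlw x (by simp [hx])
    have h1 : ∑ u ∈ A, c u = 1 := hc v (hw.trans_le hv)
    have h2 : ∑ u ∈ B, c u = 1 := ih l' hl' hlw'
    have h3 : ∑ u ∈ A ∩ B, c u = 1 := by
      rw [hi]
      refine ih _ (by simpa using hl') fun x hx => ?_
      obtain ⟨y, hy, rfl⟩ := List.mem_map.1 hx
      exact le_inf hv (hlw' y hy)
    have h4 := sum_union_inter (s₁ := A) (s₂ := B) (f := c)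
    rw [h1, h2, h3] at h4
    rw [hu]
    omega

end Cfsg.Agent.Subnormalizer
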