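import Mathlib.GroupTheory.Sylow
import Mathlib.GroupTheory.Nilpotent
import Cfsg.Agent.Lib.Blocks.Sylow
import Cfsg.Agent.Lib.Subnormalizer.Inversion

/-!
# Casolo's count of subnormalizers of `p`-subgroups

`reach_eq_sylow`: for a `p`-subgroup `R ≤ N`, the number of `g ∈ N` normalising some `p`-subgroup
of `N` above `R` equals the sum of `|N ∩ N(Q)|` over the Sylow `p`-subgroups `Q ≥ R` of `N`.
Downward induction on `R`, with inclusion–exclusion weights on the subgroups strictly above `R`
in its normaliser.
-/

namespace Cfsg.Agent.Subnormalizer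

open Subgroup Finset
open Cfsg.Agent.Blocks (SylIn)
open scoped Classical

set_option linter.unusedSectionVars false

variable {G : Type*} [Group G]

/-- `g` normalises some `p`-subgroup of `N` containing `R`. -/
def Reach (p : ℕ) (N R : Subgroup G) (g : G) : Prop :=
  ∃ T : Subgroup G, IsPGroup p T ∧ R ≤ T ∧ T ≤ N ∧ g ∈ normalizer (T : Set G)

theorem Reach.anti {p : ℕ} {N R U : Subgroup G} {g : G} (h : Reach p N U g) (hRU : R ≤ U) :
    Reach p N R g :=
  let ⟨T, h1, h2, h3, h4⟩ := h
  ⟨T, h1, hRU.trans h2, h3, h4⟩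

theorem mem_normalizer_inf {A B : Subgroup G} {g : G} (hA : g ∈ normalizer (A : Set G))
    (hB : g ∈ normalizer (B : Set G)) : g ∈ normalizer ((A ⊓ B : Subgroup G) : Set G) := by
  rw [Subgroup.mem_normalizer_iff] at hA hB ⊢
  intro x
  rw [Subgroup.mem_inf, Subgroup.mem_inf, hA x, hB x]

variable [Finite G] {p : ℕ} [Fact p.Prime]

theorem lt_inf_normalizer {R Q : Subgroup G} (hQ : IsPGroup p Q) (hRQ : R < Q) :
    R < Q ⊓ normalizer (R : Set G) := by
  have := hQ.isNilpotent
  have hne : R.subgroupOf Q < ⊤ := by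
    rw [lt_top_iff_ne_top, ne_eq, Subgroup.subgroupOf_eq_top]
    exact hRQ.not_ge
  obtain ⟨x, hx, hx'⟩ := SetLike.exists_of_lt
    (Group.normalizerCondition_of_isNilpotent (R.subgroupOf Q) hne)
  have hN : (x : G) ∈ normalizer (R : Set G) := by
    rw [Subgroup.mem_normalizer_iff]
    rw [Subgroup.mem_normalizer_iff] at hx
    intro y
    constructor
    · intro hy
      exact (hx ⟨y, hRQ.le hy⟩).1 hy
    · intro hy
      have hyQ : y ∈ Q := by
        have h1 : (x : G) * y * (x : G)⁻¹ ∈ Q := hRQ.le hy
        simpa [mul_assoc] using Q.mul_mem (Q.mul_mem (Q.inv_mem x.2) h1) x.2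
      exact (hx ⟨y, hyQ⟩).2 hy
  exact lt_of_le_of_ne (le_inf hRQ.le le_normalizer) fun h => hx'
    (by rw [Subgroup.mem_subgroupOf, h]; exact ⟨x.2, hN⟩)

theorem card_le_of_sylIn {N Q T : Subgroup G} (hQ : SylIn p N Q) (hT : IsPGroup p T)
    (hTN : T ≤ N) : Nat.card T ≤ Nat.card Q := by
  obtain ⟨x, -, hle⟩ := hQ.exists_conj_le hT hTN
  rw [← Blocks.card_map_conj T x]
  exact Subgroup.card_le_of_le hle

theorem map_conj_eq_self {D : Subgroup G} {x : G} :
    D.map (MulAut.conj x).toMonoidHom = D ↔ x ∈ normalizer (D : Set G) := by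
  rw [Subgroup.mem_normalizer_iff]
  constructor
  · intro h y
    have := SetLike.ext_iff.1 h (x * y * x⁻¹)
    rw [Blocks.mem_map_conj] at this
    simpa [mul_assoc] using this
  · intro h
    ext y
    rw [Blocks.mem_map_conj, h]
    simp [mul_assoc]

variable [Fintype G]

/-- The number of elements of `N` reaching `R`. -/
noncomputable def reachCount (p : ℕ) (N R : Subgroup G) : ℤ :=
  ∑ g : G, if g ∈ N ∧ Reach p N R g then 1 else 0

/-- The number of elements of `N` normalising `Q`. -/
noncomputable def normCount (N Q : Subgroup G) : ℤ :=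
  ∑ g : G, if g ∈ N ∧ g ∈ normalizer (Q : Set G) then 1 else 0

variable [Fintype (Subgroup G)]

/-- The Sylow side of Casolo's formula. -/
noncomputable def sylSum (p : ℕ) (N R : Subgroup G) : ℤ :=
  ∑ Q : Subgroup G, if SylIn p N Q ∧ R ≤ Q then normCount N Q else 0

theorem sylSum_of_normal {N R : Subgroup G} (hR : IsPGroup p R) (hRN : R ≤ N)
    (hn : N ≤ normalizer (R : Set G)) :
    sylSum p N R = ∑ g : G, if g ∈ N then 1 else 0 := by
  obtain ⟨Q₀, hQ₀⟩ := Blocks.exists_sylIn (p := p) N
  have hall : ∀ Q, SylIn p N Q → R ≤ Q := by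
    intro Q hQ
    obtain ⟨x, hx, hle⟩ := hQ.exists_conj_le hR hRN
    rwa [map_conj_eq_self.2 (hn hx)] at hle
  have hfib : ∀ x ∈ univ.filter (fun g => g ∈ N),
      Q₀.map (MulAut.conj x).toMonoidHom ∈ univ.filter (fun Q => SylIn p N Q) := by
    intro x hx
    have h := hQ₀.map_conj x
    rw [map_conj_eq_self.2 (le_normalizer (mem_filter.1 hx).2)] at h
    exact mem_filter.2 ⟨mem_univ _, h⟩
  have key : ∀ Q ∈ univ.filter (fun Q => SylIn p N Q),
      ((univ.filter (fun g => g ∈ N)).filter
        (fun x => Q₀.map (MulAut.conj x).toMonoidHom = Q)).card =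
      (univ.filter (fun g => g ∈ N ∧ g ∈ normalizer (Q : Set G))).card := by
    intro Q hQ
    have hQ' : SylIn p N Q := (mem_filter.1 hQ).2
    obtain ⟨x₀, hx₀, he⟩ := hQ'.exists_map_conj_eq hQ₀
    refine Finset.card_bij' (fun x _ => x * x₀⁻¹) (fun y _ => y * x₀) ?_ ?_ ?_ ?_
    · intro x hx
      simp only [mem_filter, mem_univ, true_and] at hx
      refine mem_filter.2 ⟨mem_univ _, N.mul_mem hx.1 (N.inv_mem hx₀), map_conj_eq_self.1 ?_⟩
      rw [← he, Blocks.map_conj_map_conj, inv_mul_cancel_right, hx.2, he]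
    · intro y hy
      simp only [mem_filter, mem_univ, true_and] at hy
      refine mem_filter.2 ⟨mem_filter.2 ⟨mem_univ _, N.mul_mem hy.1 hx₀⟩, ?_⟩
      rw [← Blocks.map_conj_map_conj, he, map_conj_eq_self.2 hy.2]
    · intro x _; simp
    · intro y _; simp
  have hcard := Finset.card_eq_sum_card_fiberwise hfib
  rw [Finset.sum_congr rfl key] at hcard
  rw [Finset.sum_boole, hcard, Nat.cast_sum, sylSum,
    show (fun Q : Subgroup G => if SylIn p N Q ∧ R ≤ Q then normCount N Q else 0) =
      fun Q => if SylIn p N Q then normCount N Q else 0 from funext fun Q => by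
        by_cases h : SylIn p N Q <;> simp [h, hall Q],
    ← Finset.sum_filter]
  exact Finset.sum_congr rfl fun Q _ => by rw [normCount, Finset.sum_boole]

theorem reach_eq_sylow : ∀ R : Subgroup G, IsPGroup p R → ∀ N, R ≤ N →
    sylSum p N R = reachCount p N R := by
  intro R
  induction R using WellFoundedGT.induction with
  | _ R ih =>
    intro hR N hRN
    by_cases hS : SylIn p N R
    · have hA : sylSum p N R = normCount N R := by
        rw [sylSum, Finset.sum_eq_single R]
        · rw [if_pos ⟨hS, le_rfl⟩]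
        · intro Q _ hQ
          rw [if_neg]
          rintro ⟨hQS, hle⟩
          exact hQ (Subgroup.eq_of_le_of_card_ge hle (by rw [hQS.2, hS.2])).symm
        · simp
      rw [hA, normCount, reachCount]
      refine Finset.sum_congr rfl fun g _ => if_congr ?_ rfl rfl
      refine and_congr_right fun _ => ⟨fun h => ⟨R, hR, le_rfl, hRN, h⟩, ?_⟩
      rintro ⟨T, hT, hRT, hTN, hg⟩
      have : R = T := Subgroup.eq_of_le_of_card_ge hRT (card_le_of_sylIn hS hT hTN)
      rwa [this]
    · obtain ⟨c, hc⟩ := exists_weight R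
      set N' := N ⊓ normalizer (R : Set G) with hN'
      set E := univ.filter (fun U : Subgroup G => R < U ∧ IsPGroup p U ∧ U ≤ N') with hE
      have hRN' : R ≤ N' := le_inf hRN le_normalizer
      have memE : ∀ U, U ∈ E ↔ R < U ∧ IsPGroup p U ∧ U ≤ N' := by simp [hE]
      have hlt : ∀ Q, SylIn p N Q → R ≤ Q → R < Q ⊓ normalizer (R : Set G) := fun Q hQ hle =>
        lt_inf_normalizer hQ.isPGroup (lt_of_le_of_ne hle fun h => hS (h ▸ hQ))
      have hS' : ¬ SylIn p N' R := by
        intro h
        obtain ⟨Q, hQ⟩ := Blocks.exists_sylIn (p := p) N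
        obtain ⟨x, hx, hle⟩ := hQ.exists_conj_le hR hRN
        have hQ' := hQ.map_conj x⁻¹
        rw [map_conj_eq_self.2 (le_normalizer (N.inv_mem hx))] at hQ'
        have hle' : R ≤ Q.map (MulAut.conj x⁻¹).toMonoidHom := by
          have := Subgroup.map_mono (f := (MulAut.conj x⁻¹).toMonoidHom) hle
          rwa [Blocks.map_conj_map_conj, inv_mul_cancel, Blocks.map_conj_one] at this
        have h1 := hlt _ hQ' hle'
        exact h1.not_ge (Subgroup.eq_of_le_of_card_ge h1.le (card_le_of_sylIn h
          (hQ'.isPGroup.to_le inf_le_left) (inf_le_inf_right _ hQ'.1))).ge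
      -- the Sylow side satisfies the inclusion–exclusion identity
      have hsyl : ∀ M, N' ≤ M → M ≤ N → ¬ SylIn p M R → N' = M ⊓ normalizer (R : Set G) →
          sylSum p M R = ∑ U ∈ E, c U * sylSum p M U := by
        intro M _ _ hM hMN'
        simp only [sylSum, Finset.mul_sum]
        rw [Finset.sum_comm]
        refine Finset.sum_congr rfl fun Q _ => ?_
        by_cases hQ : SylIn p M Q ∧ R ≤ Q
        · have h1 : R < Q ⊓ normalizer (R : Set G) :=
            lt_inf_normalizer hQ.1.isPGroup (lt_of_le_of_ne hQ.2 fun h => hM (h ▸ hQ.1))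
          rw [if_pos hQ]
          conv_lhs => rw [← one_mul (normCount M Q), ← hc _ h1, Finset.sum_mul]
          simp only [mul_ite, mul_zero]
          rw [← Finset.sum_filter]
          refine Finset.sum_congr ?_ fun U _ => rfl
          ext U
          simp only [mem_filter, mem_univ, true_and, memE, le_inf_iff]
          constructor
          · rintro ⟨h2, h3, h4⟩
            refine ⟨⟨h2, hQ.1.isPGroup.to_le h3, ?_⟩, hQ.1, h3⟩
            rw [hMN']
            exact le_inf (h3.trans hQ.1.1) h4
          · rintro ⟨⟨h2, _, h4⟩, _, h3⟩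
            exact ⟨h2, h3, h4.trans (hN' ▸ inf_le_right)⟩
        · rw [if_neg hQ, Finset.sum_eq_zero]
          intro U hU
          rw [if_neg, mul_zero]
          rintro ⟨h2, h3⟩
          exact hQ ⟨h2, ((memE U).1 hU).1.le.trans h3⟩
      have hA := hsyl N inf_le_left le_rfl hS rfl
      have hA' := hsyl N' le_rfl inf_le_left hS'
        (inf_eq_left.2 (hN' ▸ inf_le_right)).symm
      rw [sylSum_of_normal hR hRN' (hN' ▸ inf_le_right)] at hA'
      -- replace the Sylow side by the counting side above `R`
      have hIH : ∀ U ∈ E, sylSum p N U = reachCount p N U ∧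
          sylSum p N' U = reachCount p N' U := fun U hU => by
        obtain ⟨h1, h2, h3⟩ := (memE U).1 hU
        exact ⟨ih U h1 h2 N (h3.trans inf_le_left), ih U h1 h2 N' h3⟩
      rw [Finset.sum_congr (s₁ := E) rfl fun U hU => by rw [(hIH U hU).1]] at hA
      rw [Finset.sum_congr (s₁ := E) rfl fun U hU => by rw [(hIH U hU).2]] at hA'
      -- pointwise comparison of `N` and `N'`
      have hpt : ∀ g : G,
          (∑ U ∈ E, c U * if g ∈ N ∧ Reach p N U g then 1 else 0) -
              (if g ∈ N ∧ Reach p N R g then 1 else 0) =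
          (∑ U ∈ E, c U * if g ∈ N' ∧ Reach p N' U g then 1 else 0) -
              (if g ∈ N' then 1 else 0) := by
        intro g
        by_cases hg' : g ∈ N'
        · have hgN : g ∈ N := (Subgroup.mem_inf.1 hg').1
          have hgR : g ∈ normalizer (R : Set G) := (Subgroup.mem_inf.1 hg').2
          rw [if_pos hg', if_pos ⟨hgN, R, hR, le_rfl, hRN, hgR⟩]
          congr 1
          refine Finset.sum_congr rfl fun U hU => ?_
          congr 1
          refine if_congr ⟨?_, ?_⟩ rfl rfl
          · rintro ⟨_, T, h1, h2, h3, h4⟩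
            exact ⟨hg', T ⊓ N', h1.to_le inf_le_left, le_inf h2 ((memE U).1 hU).2.2,
              inf_le_right, mem_normalizer_inf h4 (le_normalizer hg')⟩
          · rintro ⟨_, T, h1, h2, h3, h4⟩
            exact ⟨hgN, T, h1, h2, h3.trans inf_le_left, h4⟩
        · rw [if_neg hg',
            Finset.sum_eq_zero (s := E) (f := fun U => c U * if g ∈ N' ∧ Reach p N' U g then 1 else 0)
              (fun U _ => by rw [if_neg (fun h => hg' h.1), mul_zero]), sub_zero]
          by_cases hgr : g ∈ N ∧ Reach p N R g
          · obtain ⟨hgN, hreach⟩ := hgr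
            rw [if_pos ⟨hgN, hreach⟩]
            set S := univ.filter (fun T : Subgroup G =>
              IsPGroup p T ∧ R ≤ T ∧ T ≤ N ∧ g ∈ normalizer (T : Set G)) with hSdef
            obtain ⟨T₀, hT₀⟩ := hreach
            have hT₀S : T₀ ∈ S := mem_filter.2 ⟨mem_univ _, hT₀⟩
            set M := S.inf' ⟨T₀, hT₀S⟩ id with hMdef
            have hMS : M ∈ S := by
              refine Finset.inf'_mem (↑S : Set (Subgroup G)) ?_ S _ id (fun T hT => hT)
              intro A hA B hB
              simp only [hSdef, Finset.coe_filter, mem_univ, true_and, Set.mem_setOf_eq] at hA hB ⊢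
              exact ⟨hA.1.to_le inf_le_left, le_inf hA.2.1 hB.2.1, inf_le_left.trans hA.2.2.1,
                mem_normalizer_inf hA.2.2.2 hB.2.2.2⟩
            have hMle : ∀ T ∈ S, M ≤ T := fun T hT => Finset.inf'_le id hT
            obtain ⟨-, hMp, hRM, hMN, hgM⟩ := mem_filter.1 hMS
            have hRM' : R < M := lt_of_le_of_ne hRM fun h =>
              hg' (Subgroup.mem_inf.2 ⟨hgN, h ▸ hgM⟩)
            have hW : R < M ⊓ N' := by
              have h1 := lt_inf_normalizer hMp hRM'
              refine h1.trans_le ?_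
              rw [hN', ← inf_assoc, inf_eq_left.2 hMN]
            have hne : S.toList ≠ [] := by
              rw [ne_eq, Finset.toList_eq_nil]
              exact Finset.ne_empty_of_mem hT₀S
            obtain ⟨n, hn⟩ := Nat.exists_eq_add_one.2
              (List.length_pos_iff.2 hne)
            have hsum := sum_weight_union hc hW n (S.toList.map (· ⊓ N'))
              (by rw [List.length_map, hn]) fun v hv => by
                obtain ⟨T, hT, rfl⟩ := List.mem_map.1 hv
                exact inf_le_inf_right _ (hMle T (Finset.mem_toList.1 hT))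
            simp only [mul_ite, mul_one, mul_zero]
            rw [← Finset.sum_filter, sub_eq_zero]
            refine Eq.trans (Finset.sum_congr ?_ fun U _ => rfl) hsum
            ext U
            simp only [mem_filter, mem_univ, true_and, memE, List.mem_map, Finset.mem_toList,
              exists_exists_and_eq_and, hSdef]
            constructor
            · rintro ⟨⟨h1, _, h3⟩, _, T, t1, t2, t3, t4⟩
              exact ⟨h1, T, ⟨t1, h1.le.trans t2, t3, t4⟩, le_inf t2 h3⟩
            · rintro ⟨h1, T, ⟨t1, t2, t3, t4⟩, h2⟩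
              exact ⟨⟨h1, t1.to_le (h2.trans inf_le_left), h2.trans inf_le_right⟩, hgN, T, t1,
                h2.trans inf_le_left, t3, t4⟩
          · rw [if_neg hgr, sub_zero, Finset.sum_eq_zero]
            intro U hU
            rw [if_neg, mul_zero]
            rintro ⟨h1, h2⟩
            exact hgr ⟨h1, h2.anti ((memE U).1 hU).1.le⟩
      have hsumg := Finset.sum_congr (s₁ := (univ : Finset G)) rfl (fun g _ => hpt g)
      rw [Finset.sum_sub_distrib, Finset.sum_sub_distrib, Finset.sum_comm,
        Finset.sum_comm (s := (univ : Finset G))] at hsumg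
      simp only [← Finset.mul_sum] at hsumg
      change (∑ U ∈ E, c U * reachCount p N U) - reachCount p N R =
        (∑ U ∈ E, c U * reachCount p N' U) - _ at hsumg
      rw [hA]
      omega

end Cfsg.Agent.Subnormalizer
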